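import Mathlib.RingTheory.Noetherian.Basic
import Mathlib.RingTheory.Localization.Away.Basic
import Mathlib.Algebra.Module.Projective
import Mathlib.Algebra.Module.FinitePresentation
import Mathlib.RingTheory.Finiteness.Basic
import Mathlib.LinearAlgebra.Dual.Defs

/-!
# Modules with gluing over a finite family of principal opens
-/

set_option autoImplicit false
set_option linter.all false

universe u

open scoped BigOperators

namespace Groth.Agent.H26.S2Ext.Alg

variable {A : Type u} [CommRing A] {ι : Type u} (f : ι → A)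

/-- Elements of `M` are the compatible families of fractions with denominators powers of the `f i`. -/
def GlueProp (M : Type u) [AddCommGroup M] [Module A M] : Prop :=
  (∀ m : M, (∀ i, ∃ n : ℕ, f i ^ n • m = 0) → m = 0) ∧
    ∀ (m : ι → M) (n : ℕ), (∀ i j, ∃ l : ℕ, (f i * f j) ^ l • (f j ^ n • m i - f i ^ n • m j) = 0) →
      ∃ β : M, ∀ i, ∃ l : ℕ, f i ^ l • (f i ^ n • β - m i) = 0

variable (M : Type u) [AddCommGroup M] [Module A M]

/-- `M` is finite projective over each `A[1/f i]`. -/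
def LocProj : Prop :=
  ∀ i, ∃ (A' : Type u) (_ : CommRing A') (_ : Algebra A A') (_ : IsLocalization.Away (f i) A')
    (M' : Type u) (_ : AddCommGroup M') (_ : Module A M') (_ : Module A' M') (_ : IsScalarTower A A' M')
    (g : M →ₗ[A] M'), IsLocalizedModule (Submonoid.powers (f i)) g ∧ Module.Finite A' M' ∧
      Module.Projective A' M'

variable [IsNoetherianRing A] [Finite ι] {f} {M}

/-- A module with gluing which is locally finite projective has finitely many local dual bases. -/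
theorem exists_basis (hA : GlueProp f A) (hloc : LocProj f M) :
    ∀ i, ∃ (r : ℕ) (u : Fin r → M) (χ : Fin r → (M →ₗ[A] A)) (e : ℕ), ∀ b : M,
      ∃ l : ℕ, f i ^ l • (f i ^ e • b - ∑ j, χ j b • u j) = 0 := by
  classical
  have hd : ∀ i, ∃ (A' : Type u) (_ : CommRing A') (_ : Algebra A A') (_ : IsLocalization.Away (f i) A')
      (r : ℕ) (u : Fin r → M) (ψ : Fin r → (M →ₗ[A] A')), ∀ b : M, ∀ (a : Fin r → A) (n : ℕ),
      (∀ j, algebraMap A A' (f i ^ n) * ψ j b = algebraMap A A' (a j)) →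
        ∃ l : ℕ, f i ^ l • (f i ^ n • b - ∑ j, a j • u j) = 0 := by
    intro i
    obtain ⟨A', hA', hAA', hAw, M', hM', hAM', hA'M', hT, g, hg, hfin, hproj⟩ := hloc i
    obtain ⟨r, π, hπ⟩ := Module.Finite.exists_fin' A' M'
    obtain ⟨s, hs⟩ := Module.projective_lifting_property π LinearMap.id hπ
    have hdb : ∀ j : Fin r, ∃ (u : M) (c : ℕ), f i ^ c • π (Pi.single j 1) = g u := by
      intro j
      obtain ⟨⟨u, ⟨_, c, rfl⟩⟩, hu⟩ := IsLocalizedModule.surj (Submonoid.powers (f i)) g (π (Pi.single j 1))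
      exact ⟨u, c, hu⟩
    choose u c hu using hdb
    let C := Finset.univ.sup c
    have hunit : IsUnit (algebraMap A A' (f i ^ C)) := by
      rw [map_pow]; exact (IsLocalization.Away.algebraMap_isUnit (f i)).pow C
    let w := (hunit.unit⁻¹ : A'ˣ)
    let u' : Fin r → M := fun j => f i ^ (C - c j) • u j
    have hu' : ∀ j, g (u' j) = f i ^ C • π (Pi.single j 1) := by
      intro j
      rw [map_smul, ← hu, smul_smul, ← pow_add, Nat.sub_add_cancel (Finset.le_sup (Finset.mem_univ j))]
    let ψ : Fin r → (M →ₗ[A] A') := fun j =>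
      { toFun := fun b => (w : A') * s (g b) j
        map_add' := fun b b' => by simp [mul_add]
        map_smul' := fun a b => by
          simp only [map_smul, RingHom.id_apply]
          rw [← IsScalarTower.algebraMap_smul A' a (g b), map_smul, Pi.smul_apply, smul_eq_mul,
            Algebra.smul_def]
          ring }
    refine ⟨A', hA', hAA', hAw, r, u', ψ, fun b a n ha => ?_⟩
    have key : g (f i ^ n • b - ∑ j, a j • u' j) = 0 := by
      rw [map_sub, map_smul, map_sum, sub_eq_zero]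
      conv_lhs => rw [show g b = π (s (g b)) from (LinearMap.congr_fun hs (g b)).symm,
        pi_eq_sum_univ' (s (g b))]
      rw [map_sum, Finset.smul_sum]
      refine Finset.sum_congr rfl fun j _ => ?_
      rw [map_smul, map_smul, hu', ← IsScalarTower.algebraMap_smul A' (a j), ← ha j,
        ← IsScalarTower.algebraMap_smul A' (f i ^ n), ← IsScalarTower.algebraMap_smul A' (f i ^ C),
        smul_smul, smul_smul]
      congr 1
      show _ = algebraMap A A' (f i ^ n) * ((w : A') * s (g b) j) * algebraMap A A' (f i ^ C)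
      rw [mul_assoc, mul_comm (w : A'), mul_assoc, IsUnit.val_inv_mul hunit, mul_one]
    obtain ⟨⟨_, l, rfl⟩, hl⟩ := (IsLocalizedModule.eq_zero_iff (Submonoid.powers (f i)) g).mp key
    exact ⟨l, hl⟩
  choose A' hA' hAA' hAw r u ψ hψ using hd
  let := hA'
  let := hAA'
  haveI := hAw
  haveI : Finite (Σ i, Fin (r i)) := by
    have := Fintype.ofFinite ι
    exact Finite.of_fintype _
  let F : Submodule A M := Submodule.span A (Set.range fun p : Σ i, Fin (r i) => u p.1 p.2)
  haveI : Module.Finite A F := Module.Finite.iff_fg.mpr (Submodule.fg_span (Set.finite_range _))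
  have hF : ∀ i b, ∃ n : ℕ, f i ^ n • b ∈ F := by
    intro i b
    have hcl : ∀ j, ∃ (n : ℕ) (a : A), algebraMap A (A' i) (f i ^ n) * ψ i j b = algebraMap A (A' i) a := by
      intro j
      obtain ⟨⟨a, ⟨_, n, rfl⟩⟩, h⟩ := IsLocalization.surj (Submonoid.powers (f i)) (ψ i j b)
      exact ⟨n, a, by rw [mul_comm]; exact h⟩
    choose n a ha using hcl
    let N := Finset.univ.sup n
    obtain ⟨l, hl⟩ := hψ i b (fun j => f i ^ (N - n j) * a j) N (fun j => by
      rw [map_mul, ← ha j, ← mul_assoc, ← map_mul, ← pow_add,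
        Nat.sub_add_cancel (Finset.le_sup (Finset.mem_univ j))])
    refine ⟨l + N, ?_⟩
    rw [pow_add, mul_smul, ← sub_add_cancel (f i ^ N • b) (∑ j, (f i ^ (N - n j) * a j) • u i j), smul_add, hl,
      zero_add]
    exact F.smul_mem _ (F.sum_mem fun j _ => F.smul_mem _ (Submodule.subset_span ⟨⟨i, j⟩, rfl⟩))
  -- extension of functionals
  have hext : ∀ φ : F →ₗ[A] A, ∃ φ' : M →ₗ[A] A, ∀ x : F, φ' x = φ x := by
    intro φ
    have hval : ∀ b : M, ∃ α : A, ∀ i (n : ℕ) (h : f i ^ n • b ∈ F),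
        ∃ l : ℕ, f i ^ l * (f i ^ n * α - φ ⟨_, h⟩) = 0 := by
      intro b
      have := Fintype.ofFinite ι
      choose n hn using fun i => hF i b
      let N := Finset.univ.sup n
      have hN : ∀ i, f i ^ N • b ∈ F := fun i => by
        rw [← Nat.sub_add_cancel (show n i ≤ N from Finset.le_sup (f := n) (Finset.mem_univ i)), pow_add, mul_smul]
        exact F.smul_mem _ (hn i)
      obtain ⟨α, hα⟩ := hA.2 (fun i => φ ⟨_, hN i⟩) N (fun i j => ⟨0, by
        rw [pow_zero, one_smul, sub_eq_zero, ← map_smul, ← map_smul]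
        congr 1
        ext
        simp only [Submodule.coe_smul]
        rw [smul_comm]⟩)
      refine ⟨α, fun i m hm => ?_⟩
      obtain ⟨l, hl⟩ := hα i
      refine ⟨l + N, ?_⟩
      have e : f i ^ N * φ ⟨_, hm⟩ = f i ^ m * φ ⟨_, hN i⟩ := by
        rw [← smul_eq_mul, ← smul_eq_mul, ← map_smul, ← map_smul]
        congr 1
        ext
        simp only [Submodule.coe_smul]
        rw [smul_comm]
      simp only [smul_eq_mul] at hl
      calc f i ^ (l + N) * (f i ^ m * α - φ ⟨_, hm⟩)
          = f i ^ m * (f i ^ l * (f i ^ N * α - φ ⟨_, hN i⟩)) +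
              f i ^ l * (f i ^ m * φ ⟨_, hN i⟩ - f i ^ N * φ ⟨_, hm⟩) := by ring
        _ = 0 := by rw [hl, e, sub_self, mul_zero, mul_zero, add_zero]
    choose φ' hφ' using hval
    have huniq : ∀ (α : A) (b : M), (∀ i, ∃ (n l : ℕ) (h : f i ^ n • b ∈ F),
        f i ^ l * (f i ^ n * α - φ ⟨_, h⟩) = 0) → α = φ' b := by
      intro α b h
      rw [← sub_eq_zero]
      refine hA.1 _ fun i => ?_
      obtain ⟨n, l, hn, hl⟩ := h i
      obtain ⟨l', hl'⟩ := hφ' b i n hn
      refine ⟨l + l' + n, ?_⟩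
      rw [smul_eq_mul]
      calc f i ^ (l + l' + n) * (α - φ' b)
          = f i ^ l' * (f i ^ l * (f i ^ n * α - φ ⟨_, hn⟩)) -
            f i ^ l * (f i ^ l' * (f i ^ n * φ' b - φ ⟨_, hn⟩)) := by ring
        _ = 0 := by rw [hl, hl', mul_zero, mul_zero, sub_self]
    refine ⟨{ toFun := φ', map_add' := fun b b' => ?_, map_smul' := fun a b => ?_ }, fun x => ?_⟩
    · refine (huniq _ _ fun i => ?_).symm
      obtain ⟨n, hn⟩ := hF i b
      obtain ⟨n', hn'⟩ := hF i b'
      have h1 : f i ^ (n + n') • b ∈ F := by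
        rw [add_comm, pow_add, mul_smul]; exact F.smul_mem _ hn
      have h2 : f i ^ (n + n') • b' ∈ F := by
        rw [pow_add, mul_smul]; exact F.smul_mem _ hn'
      obtain ⟨l, hl⟩ := hφ' b i _ h1
      obtain ⟨l', hl'⟩ := hφ' b' i _ h2
      refine ⟨n + n', l + l', by rw [smul_add]; exact F.add_mem h1 h2, ?_⟩
      have e : φ ⟨_, (by rw [smul_add]; exact F.add_mem h1 h2 : f i ^ (n + n') • (b + b') ∈ F)⟩ =
          φ ⟨_, h1⟩ + φ ⟨_, h2⟩ := by
        rw [← map_add]; congr 1; ext; exact smul_add _ _ _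
      rw [e]
      calc f i ^ (l + l') * (f i ^ (n + n') * (φ' b + φ' b') - (φ ⟨_, h1⟩ + φ ⟨_, h2⟩))
          = f i ^ l' * (f i ^ l * (f i ^ (n + n') * φ' b - φ ⟨_, h1⟩)) +
            f i ^ l * (f i ^ l' * (f i ^ (n + n') * φ' b' - φ ⟨_, h2⟩)) := by ring
        _ = 0 := by rw [hl, hl', mul_zero, mul_zero, add_zero]
    · refine (huniq _ _ fun i => ?_).symm
      obtain ⟨n, hn⟩ := hF i b
      obtain ⟨l, hl⟩ := hφ' b i n hn
      refine ⟨n, l, by rw [smul_comm]; exact F.smul_mem _ hn, ?_⟩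
      have e : φ ⟨_, (by rw [smul_comm]; exact F.smul_mem _ hn : f i ^ n • a • b ∈ F)⟩ = a * φ ⟨_, hn⟩ := by
        rw [← smul_eq_mul, ← map_smul]; congr 1; ext; exact smul_comm _ _ _
      rw [e, RingHom.id_apply, smul_eq_mul]
      calc f i ^ l * (f i ^ n * (a * φ' b) - a * φ ⟨_, hn⟩)
          = a * (f i ^ l * (f i ^ n * φ' b - φ ⟨_, hn⟩)) := by ring
        _ = 0 := by rw [hl, mul_zero]
    · refine (huniq _ _ fun i => ?_).symm
      refine ⟨0, 0, by rw [pow_zero, one_smul]; exact x.2, ?_⟩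
      have e : φ ⟨_, (by rw [pow_zero, one_smul]; exact x.2 : f i ^ 0 • (x : M) ∈ F)⟩ = φ x := by
        congr 1; ext; simp
      rw [e]; ring
  -- the local dual bases
  intro i
  haveI : Module.FinitePresentation A F := Module.finitePresentation_of_finite A F
  have hlift : ∀ j, ∃ (e : ℕ) (φ' : M →ₗ[A] A), ∀ x : F,
      algebraMap A (A' i) (f i ^ e) * ψ i j x = algebraMap A (A' i) (φ' x) := by
    intro j
    obtain ⟨φ, ⟨_, e, rfl⟩, hφ⟩ := Module.FinitePresentation.exists_lift_of_isLocalizedModule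
      (Submonoid.powers (f i)) (Algebra.linearMap A (A' i)) ((ψ i j).comp F.subtype)
    obtain ⟨φ', hφ'⟩ := hext φ
    refine ⟨e, φ', fun x => ?_⟩
    rw [hφ']
    have := LinearMap.congr_fun hφ x
    simp only [LinearMap.comp_apply, Algebra.linearMap_apply, LinearMap.smul_apply, Submonoid.smul_def] at this
    rw [this, Algebra.smul_def]
    rfl
  choose e φ' hφ' using hlift
  let E := Finset.univ.sup e
  refine ⟨r i, u i, fun j => f i ^ (E - e j) • φ' j, E, fun b => hψ i b _ E fun j => ?_⟩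
  obtain ⟨n, hn⟩ := hF i b
  have h1 := hφ' j ⟨_, hn⟩
  simp only [map_smul, smul_eq_mul, Algebra.smul_def] at h1
  have hu : IsUnit (algebraMap A (A' i) (f i ^ n)) := by
    rw [map_pow]; exact (IsLocalization.Away.algebraMap_isUnit (f i)).pow n
  rw [LinearMap.smul_apply, smul_eq_mul, map_mul]
  apply hu.mul_left_cancel
  rw [mul_left_comm (algebraMap A (A' i) (f i ^ n)) (algebraMap A (A' i) (f i ^ (E - e j))), ← map_mul, ← h1]
  have hE : f i ^ E = f i ^ (E - e j) * f i ^ e j := by
    rw [← pow_add, Nat.sub_add_cancel (show e j ≤ E from Finset.le_sup (f := e) (Finset.mem_univ j))]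
  rw [hE, map_mul]
  ring

theorem bijective_eval (hA : GlueProp f A) (hM : GlueProp f M) (hloc : LocProj f M) :
    Module.Finite A M ∧ Module.Finite A (M →ₗ[A] A) ∧
      Function.Bijective (Module.Dual.eval A M) := by
  classical
  have := Fintype.ofFinite ι
  choose r u χ e hχ using exists_basis hA hloc
  let E := Finset.univ.sup e
  have hD : ∀ i b, ∃ l : ℕ, f i ^ l • (f i ^ E • b - ∑ j, (f i ^ (E - e i) * χ i j b) • u i j) = 0 := by
    intro i b
    obtain ⟨l, hl⟩ := hχ i b
    refine ⟨l, ?_⟩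
    have h1 : f i ^ E • b - ∑ j, (f i ^ (E - e i) * χ i j b) • u i j =
        f i ^ (E - e i) • (f i ^ e i • b - ∑ j, χ i j b • u i j) := by
      rw [smul_sub, smul_smul, ← pow_add, Nat.sub_add_cancel (show e i ≤ E from Finset.le_sup (f := e) (Finset.mem_univ i)),
        Finset.smul_sum]
      simp [smul_smul]
    rw [h1, smul_comm, hl, smul_zero]
  let U : (M →ₗ[A] A) →ₗ[A] ((Σ i, Fin (r i)) → A) :=
    { toFun := fun φ p => φ (u p.1 p.2)
      map_add' := fun _ _ => rfl
      map_smul' := fun _ _ => rfl }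
  have hU : Function.Injective U := by
    rw [injective_iff_map_eq_zero]
    intro φ hφ
    refine LinearMap.ext fun b => hA.1 _ fun i => ?_
    obtain ⟨l, hl⟩ := hχ i b
    refine ⟨l + e i, ?_⟩
    have h0 := congrArg φ hl
    have hz : ∀ j, φ (u i j) = 0 := fun j => congr_fun hφ ⟨i, j⟩
    simp only [map_smul, map_sub, map_sum, hz, smul_zero, Finset.sum_const_zero, sub_zero, map_zero] at h0
    rw [pow_add, mul_smul]
    exact h0
  haveI hfd : Module.Finite A (M →ₗ[A] A) := Module.Finite.of_injective U hU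
  have hinj : Function.Injective (Module.Dual.eval A M) := by
    rw [injective_iff_map_eq_zero]
    intro b hb
    refine hM.1 b fun i => ?_
    obtain ⟨l, hl⟩ := hχ i b
    refine ⟨l + e i, ?_⟩
    have hz : ∀ j, χ i j b = 0 := fun j => LinearMap.congr_fun hb (χ i j)
    simp only [hz, zero_smul, Finset.sum_const_zero, sub_zero] at hl
    rw [pow_add, mul_smul]
    exact hl
  refine ⟨?_, hfd, hinj, fun θ => ?_⟩
  · obtain ⟨s, hs⟩ := (Module.Finite.fg_top : (⊤ : Submodule A (M →ₗ[A] A)).FG)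
    let W : M →ₗ[A] (s → A) := LinearMap.pi fun φ : s => φ.1
    refine Module.Finite.of_injective W ?_
    rw [injective_iff_map_eq_zero]
    intro b hb
    refine (injective_iff_map_eq_zero _).mp hinj b (LinearMap.ext_on hs fun φ hφ => ?_)
    exact congr_fun hb ⟨φ, hφ⟩
  let χ' : ∀ i, Fin (r i) → (M →ₗ[A] A) := fun i j => f i ^ (E - e i) • χ i j
  let m : ι → M := fun i => ∑ j, θ (χ' i j) • u i j
  have hm : ∀ i (φ : M →ₗ[A] A), ∃ l : ℕ, f i ^ l * (f i ^ E * θ φ - φ (m i)) = 0 := by
    intro i φ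
    let w : M →ₗ[A] A := f i ^ E • φ - ∑ j, φ (u i j) • χ' i j
    have hw : ∀ q : Σ i, Fin (r i), ∃ l : ℕ, f i ^ l • U w q = 0 := by
      rintro ⟨k, j⟩
      obtain ⟨l, hl⟩ := hD i (u k j)
      refine ⟨l, ?_⟩
      have h0 := congrArg φ hl
      simp only [map_smul, map_sub, map_sum, map_zero, smul_eq_mul] at h0
      rw [smul_eq_mul, ← h0]
      show f i ^ l * w (u k j) = _
      congr 1
      simp only [w, χ', LinearMap.sub_apply, LinearMap.smul_apply, LinearMap.coe_sum, Finset.sum_apply,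
        smul_eq_mul]
      congr 1
      exact Finset.sum_congr rfl fun a _ => mul_comm _ _
    choose l hl using hw
    let L := Finset.univ.sup l
    refine ⟨L, ?_⟩
    have h0 : f i ^ L • w = 0 := hU (by
      funext q
      rw [map_smul, map_zero, Pi.smul_apply, Pi.zero_apply,
        ← Nat.sub_add_cancel (show l q ≤ L from Finset.le_sup (f := l) (Finset.mem_univ q)), pow_add, mul_smul, hl, smul_zero])
    have h1 := congrArg θ h0
    simp only [w, map_smul, map_sub, map_sum, map_zero, smul_eq_mul] at h1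
    rw [← h1]
    congr 1
    congr 1
    simp only [m, map_sum, map_smul, smul_eq_mul]
    exact Finset.sum_congr rfl fun j _ => mul_comm _ _
  obtain ⟨s, hs⟩ := (Module.Finite.fg_top : (⊤ : Submodule A (M →ₗ[A] A)).FG)
  obtain ⟨β, hβ⟩ := hM.2 m E (fun i j => by
    have hk : ∀ φ : s, ∃ l : ℕ, (f i * f j) ^ l * φ.1 (f j ^ E • m i - f i ^ E • m j) = 0 := by
      intro φ
      obtain ⟨l, hl⟩ := hm i φ.1
      obtain ⟨l', hl'⟩ := hm j φ.1
      refine ⟨l + l', ?_⟩
      rw [map_sub, map_smul, map_smul, smul_eq_mul, smul_eq_mul, mul_pow]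
      calc f i ^ (l + l') * f j ^ (l + l') * (f j ^ E * φ.1 (m i) - f i ^ E * φ.1 (m j))
          = f i ^ l * f j ^ (l + l') * f i ^ E * (f j ^ l' * (f j ^ E * θ φ.1 - φ.1 (m j))) * 0 +
            (f j ^ l * f i ^ (l + E) * f i ^ l' * (f j ^ l' * (f j ^ E * θ φ.1 - φ.1 (m j))) -
            f i ^ l' * f j ^ (l + l' + E) * (f i ^ l * (f i ^ E * θ φ.1 - φ.1 (m i)))) := by ring
        _ = 0 := by rw [hl, hl']; ring
    choose l hl using hk
    let L := Finset.univ.sup l
    refine ⟨L, hinj ?_⟩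
    rw [map_zero]
    refine LinearMap.ext_on hs fun φ hφ => ?_
    show φ ((f i * f j) ^ L • _) = 0
    rw [map_smul, smul_eq_mul, ← Nat.sub_add_cancel (show l ⟨φ, hφ⟩ ≤ L from Finset.le_sup (f := l) (Finset.mem_univ (⟨φ, hφ⟩ : s))), pow_add,
      mul_assoc, hl ⟨φ, hφ⟩, mul_zero])
  refine ⟨β, LinearMap.ext fun φ => ?_⟩
  show φ β = θ φ
  rw [← sub_eq_zero]
  refine hA.1 _ fun i => ?_
  obtain ⟨l, hl⟩ := hβ i
  obtain ⟨l', hl'⟩ := hm i φ
  refine ⟨l + l' + E, ?_⟩
  have h0 := congrArg φ hl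
  simp only [map_smul, map_sub, map_zero, smul_eq_mul] at h0
  rw [smul_eq_mul]
  calc f i ^ (l + l' + E) * (φ β - θ φ)
      = f i ^ l' * (f i ^ l * (f i ^ E * φ β - φ (m i))) -
        f i ^ l * (f i ^ l' * (f i ^ E * θ φ - φ (m i))) := by ring
    _ = 0 := by rw [h0, hl', mul_zero, mul_zero, sub_self]

/-- A module which is the dual of a finite module keeps weakly regular pairs. -/
theorem pair_of_bijective_eval (hfd : Module.Finite A (M →ₗ[A] A))
    (hev : Function.Bijective (Module.Dual.eval A M)) (S : Submonoid A) (x y : A)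
    (hx : ∀ a : A, x * a = 0 → ∃ s ∈ S, s * a = 0)
    (hy : ∀ a c : A, y * a = x * c → ∃ s ∈ S, ∃ d, s * a = x * d) :
    (∀ b : M, x • b = 0 → ∃ s ∈ S, s • b = 0) ∧
      ∀ b c : M, y • b = x • c → ∃ s ∈ S, ∃ d, s • b = x • d := by
  classical
  obtain ⟨gens, hg⟩ := hfd.fg_top
  constructor
  · intro b hb
    have hk : ∀ φ : gens, ∃ s ∈ S, s * φ.1 b = 0 := fun φ => hx _ (by
      rw [← smul_eq_mul, ← map_smul, hb, map_zero])
    choose s hs hsb using hk
    refine ⟨∏ φ, s φ, prod_mem fun φ _ => hs φ, hev.1 ?_⟩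
    rw [map_zero]
    refine LinearMap.ext_on hg fun φ hφ => ?_
    show φ ((∏ φ, s φ) • b) = 0
    rw [map_smul, smul_eq_mul, ← Finset.prod_erase_mul _ s (Finset.mem_univ (⟨φ, hφ⟩ : gens)), mul_assoc,
      hsb ⟨φ, hφ⟩, mul_zero]
  · intro b c hbc
    have hk : ∀ φ : gens, ∃ s ∈ S, ∃ d, s * φ.1 b = x * d := fun φ => hy _ (φ.1 c) (by
      rw [← smul_eq_mul, ← smul_eq_mul, ← map_smul, ← map_smul, hbc])
    choose s hs d hd using hk
    let T := ∏ φ, s φ
    have hdiv : ∀ φ : M →ₗ[A] A, ∃ a, T * φ b = x * a := by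
      intro φ
      have hmem : φ ∈ Submodule.span A (gens : Set (M →ₗ[A] A)) := hg ▸ Submodule.mem_top
      induction hmem using Submodule.span_induction with
      | mem φ hφ =>
        refine ⟨(∏ q ∈ Finset.univ.erase (⟨φ, hφ⟩ : gens), s q) * d ⟨φ, hφ⟩, ?_⟩
        show (∏ q, s q) * φ b = _
        rw [← Finset.prod_erase_mul _ s (Finset.mem_univ (⟨φ, hφ⟩ : gens)), mul_assoc, hd ⟨φ, hφ⟩]
        ring
      | zero => exact ⟨0, by simp⟩
      | add φ ψ _ _ hp hq =>
        obtain ⟨a, ha⟩ := hp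
        obtain ⟨a', ha'⟩ := hq
        exact ⟨a + a', by rw [LinearMap.add_apply, mul_add, mul_add, ha, ha']⟩
      | smul r φ _ hp =>
        obtain ⟨a, ha⟩ := hp
        exact ⟨r * a, by rw [LinearMap.smul_apply, smul_eq_mul, mul_left_comm, ha]; ring⟩
    obtain ⟨ann, hann⟩ := IsNoetherian.noetherian (LinearMap.ker (LinearMap.mulLeft A x))
    have hk2 : ∀ a : ann, ∃ v ∈ S, v * a.1 = 0 := fun a => hx _ (by
      have := hann ▸ Submodule.subset_span a.2
      simpa using this)
    choose v hv hva using hk2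
    let V := ∏ a, v a
    have hV : ∀ a, x * a = 0 → V * a = 0 := by
      intro a ha
      have hmem : a ∈ Submodule.span A (ann : Set A) := by rw [hann]; simpa using ha
      have hle : Submodule.span A (ann : Set A) ≤ LinearMap.ker (LinearMap.mulLeft A V) := by
        refine Submodule.span_le.mpr fun q hq => ?_
        show V * q = 0
        show (∏ a, v a) * q = 0
        rw [← Finset.prod_erase_mul _ v (Finset.mem_univ (⟨q, hq⟩ : ann)), mul_assoc, hva ⟨q, hq⟩, mul_zero]
      simpa using hle hmem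
    choose a ha using hdiv
    have hcong : ∀ p q, x * p = x * q → V * p = V * q := fun p q h => by
      rw [← sub_eq_zero, ← mul_sub]
      exact hV _ (by rw [mul_sub, h, sub_self])
    let θ : (M →ₗ[A] A) →ₗ[A] A :=
      { toFun := fun φ => V * a φ
        map_add' := fun φ ψ => by
          rw [← mul_add]
          exact hcong _ _ (by rw [← ha, LinearMap.add_apply, mul_add, mul_add, ha, ha])
        map_smul' := fun r φ => by
          rw [RingHom.id_apply, smul_eq_mul, mul_left_comm]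
          exact hcong _ _ (by rw [← ha, LinearMap.smul_apply, smul_eq_mul, mul_left_comm, ha]; ring) }
    obtain ⟨d', hd'⟩ := hev.2 θ
    refine ⟨V * T, S.mul_mem (prod_mem fun a _ => hv a) (prod_mem fun φ _ => hs φ), d', hev.1 ?_⟩
    refine LinearMap.ext fun φ => ?_
    show φ ((V * T) • b) = φ (x • d')
    rw [map_smul, map_smul, smul_eq_mul, smul_eq_mul, show φ d' = V * a φ from LinearMap.congr_fun hd' φ,
      mul_assoc, ha]
    ring

end Groth.Agent.H26.S2Ext.Alg
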