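import Groth.Agent.H26.S2Ext.Sheaf
import Mathlib.AlgebraicGeometry.Normalization
import Mathlib.AlgebraicGeometry.Morphisms.Affine

/-!
# Finite extensions of depth two of finite etale covers
-/

set_option autoImplicit false
set_option linter.all false
set_option maxHeartbeats 1000000

universe u

open CategoryTheory CategoryTheory.Limits AlgebraicGeometry TopologicalSpace Opposite

namespace Groth.Agent.H26.S2Ext.Main

variable {X : Scheme.{u}} [IsLocallyNoetherian X] (U : X.Opens)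
  (hU : ∀ x : X, x ∉ U → (2 : ℕ∞) ≤ LocCoh.depth (X.presheaf.stalk x) (X.presheaf.stalk x))
  {V : Scheme.{u}} (h : V ⟶ (U : Scheme.{u})) [IsFinite h] [Etale h]

include hU

theorem bijective_app {W : X.Opens} (hW : IsAffineOpen W)
    (hle : (h ≫ U.ι) ⁻¹ᵁ W ≤ (h ≫ U.ι).toNormalization ⁻¹ᵁ ((h ≫ U.ι).fromNormalization ⁻¹ᵁ W)) :
    Function.Bijective ((h ≫ U.ι).toNormalization.appLE _ _ hle).hom := by
  let g := h ≫ U.ι
  letI := (g.app W).hom.toAlgebra
  obtain ⟨hfin, -, -⟩ := Sheaf.section_data U hU h hW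
  have hint : ∀ x : Γ(V, g ⁻¹ᵁ W), IsIntegral Γ(X, W) x := fun x => @IsIntegral.of_finite _ _ _ _ _ hfin x
  haveI : IsIso (CommRingCat.ofHom (integralClosure Γ(X, W) Γ(V, g ⁻¹ᵁ W)).val.toRingHom) :=
    (ConcreteCategory.isIso_iff_bijective _).mpr ⟨Subtype.val_injective, fun x => ⟨⟨x, hint x⟩, rfl⟩⟩
  have he := g.normalizationObjIso_hom_val hW
  haveI : IsIso (g.toNormalization.appLE (g.fromNormalization ⁻¹ᵁ W) (g ⁻¹ᵁ W) hle) := by
    rw [← he]; infer_instance
  exact ConcreteCategory.bijective_of_isIso (g.toNormalization.appLE (g.fromNormalization ⁻¹ᵁ W) (g ⁻¹ᵁ W) hle)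

theorem isFinite_fromNormalization : IsFinite (h ≫ U.ι).fromNormalization := by
  let g := h ≫ U.ι
  refine (IsFinite.iff_isIntegralHom_and_locallyOfFiniteType _).mpr ⟨inferInstance, ?_⟩
  refine (IsZariskiLocalAtTarget.iff_of_iSup_eq_top (P := @LocallyOfFiniteType) _
    (iSup_affineOpens_eq_top X)).mpr fun W => ?_
  have hfin : (g.fromNormalization.app W.1).hom.Finite := by
    letI := (g.app W.1).hom.toAlgebra
    obtain ⟨hf, -, -⟩ := Sheaf.section_data U hU h W.2
    haveI : IsNoetherianRing Γ(X, W.1) := IsLocallyNoetherian.component_noetherian W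
    haveI := isNoetherian_of_isNoetherianRing_of_finite Γ(X, W.1) Γ(V, g ⁻¹ᵁ W.1)
    haveI : Module.Finite Γ(X, W.1) (integralClosure Γ(X, W.1) Γ(V, g ⁻¹ᵁ W.1)) :=
      Module.Finite.of_injective (integralClosure Γ(X, W.1) Γ(V, g ⁻¹ᵁ W.1)).val.toLinearMap Subtype.val_injective
    rw [Scheme.Hom.fromNormalization_app _ W.2]
    exact (RingHom.Finite.of_surjective _
      (ConcreteCategory.bijective_of_isIso (g.normalizationObjIso W.2).inv).2).comp
        (RingHom.finite_algebraMap.2 inferInstance)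
  haveI : IsAffine (W.1 : Scheme.{u}) := W.2
  haveI : IsAffine (g.fromNormalization ⁻¹ᵁ W.1 : g.normalization.Opens) := W.2.preimage _
  refine (HasRingHomProperty.iff_of_isAffine (P := @LocallyOfFiniteType)).mpr ?_
  rw [morphismRestrict_appTop]
  have hf' : ∀ O : X.Opens, O = W.1 → (g.fromNormalization.app O).hom.Finite := fun O ho => by subst ho; exact hfin
  refine RingHom.FiniteType.comp (RingHom.FiniteType.of_surjective _ ?_) (hf' _ W.1.ι_image_top).finiteType
  rw [eqToHom_op, eqToHom_map]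
  generalize_proofs at *
  exact (eqToIso (by assumption)).commRingCatIsoToRingEquiv.surjective

theorem exists_iso : ∃ e : pullback (h ≫ U.ι).fromNormalization U.ι ≅ V, e.hom ≫ h = pullback.snd _ _ := by
  let g := h ≫ U.ι
  let π := g.fromNormalization
  let t := g.toNormalization
  let O : g.normalization.Opens := π ⁻¹ᵁ U
  haveI : IsIso (t ∣_ O) := by
    have hcov : ∀ x : U, ∃ W : X.Opens, IsAffineOpen W ∧ x.1 ∈ W ∧ W ≤ U := fun x =>
      exists_isAffineOpen_mem_and_subset x.2
    choose W hWa hxW hWU using hcov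
    have hall : ∀ x, IsIso (t ∣_ (π ⁻¹ᵁ W x)) := fun x => by
      have hteq : t ⁻¹ᵁ (π ⁻¹ᵁ W x) = g ⁻¹ᵁ W x := by
        rw [← Scheme.Hom.comp_preimage, Scheme.Hom.toNormalization_fromNormalization]
      have haff : IsAffineOpen (g ⁻¹ᵁ W x) :=
        ((hWa x).preimage_of_isOpenImmersion U.ι (by rw [Scheme.Opens.opensRange_ι]; exact hWU x)).preimage h
      have hb := bijective_app U hU h (hWa x) hteq.ge
      haveI : IsIso (t.app (π ⁻¹ᵁ W x)) := by
        have key : ∀ (O' : V.Opens) (hO' : O' ≤ t ⁻¹ᵁ (π ⁻¹ᵁ W x)), O' = t ⁻¹ᵁ (π ⁻¹ᵁ W x) →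
            IsIso (t.appLE (π ⁻¹ᵁ W x) O' hO') → IsIso (t.app (π ⁻¹ᵁ W x)) := by
          rintro O' hO' rfl hi
          rwa [Scheme.Hom.app_eq_appLE]
        exact key _ _ hteq.symm ((ConcreteCategory.isIso_iff_bijective _).mpr hb)
      haveI : IsAffine ((π ⁻¹ᵁ W x : g.normalization.Opens) : Scheme.{u}) := (hWa x).preimage π
      haveI : IsAffine ((t ⁻¹ᵁ (π ⁻¹ᵁ W x) : V.Opens) : Scheme.{u}) := hteq ▸ haff
      haveI : IsIso (t ∣_ (π ⁻¹ᵁ W x)).appTop := by
        have key : ∀ O' : g.normalization.Opens, O' = π ⁻¹ᵁ W x → IsIso (t.app O') := fun O' e => by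
          subst e; infer_instance
        haveI := key _ (π ⁻¹ᵁ W x).ι_image_top
        rw [morphismRestrict_appTop]
        exact IsIso.comp_isIso' (key _ (π ⁻¹ᵁ W x).ι_image_top) (by rw [eqToHom_op, eqToHom_map]; generalize_proofs at *; exact (eqToIso (by assumption)).isIso_hom)
      exact ((MorphismProperty.isomorphisms Scheme.{u}).arrow_mk_iso_iff (arrowIsoSpecΓOfIsAffine _)).mpr
        (inferInstanceAs (IsIso (Spec.map (t ∣_ (π ⁻¹ᵁ W x)).appTop)))
    have hOeq : O = ⨆ x, π ⁻¹ᵁ W x := by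
      refine le_antisymm (fun y (hy : π y ∈ U) => Opens.mem_iSup.mpr (show ∃ i, y ∈ π ⁻¹ᵁ W i from ⟨⟨π y, hy⟩, hxW _⟩)) (iSup_le fun x => π.preimage_mono (hWU x))
    refine (IsZariskiLocalAtTarget.iff_of_iSup_eq_top (P := MorphismProperty.isomorphisms Scheme.{u})
      (fun x => O.ι ⁻¹ᵁ (π ⁻¹ᵁ W x)) ?_).mpr fun x => ?_
    · refine top_le_iff.mp fun y _ => ?_
      obtain ⟨x, hx⟩ := Opens.mem_iSup.mp (hOeq.le y.2)
      exact Opens.mem_iSup.mpr ⟨x, hx⟩
    · refine ((MorphismProperty.isomorphisms Scheme.{u}).arrow_mk_iso_iff ?_).mpr (hall x)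
      refine morphismRestrictRestrict t O _ ≪≫ morphismRestrictEq t ?_
      rw [Scheme.Hom.image_preimage_eq_opensRange_inf, Scheme.Opens.opensRange_ι]
      exact inf_eq_right.mpr (π.preimage_mono (hWU x))
  have htop : t ⁻¹ᵁ O = ⊤ := by
    refine top_le_iff.mp fun y _ => ?_
    show π (t y) ∈ U
    rw [← Scheme.Hom.comp_apply, Scheme.Hom.toNormalization_fromNormalization]
    exact (h y).2
  haveI : IsIso (t ⁻¹ᵁ O).ι := by
    rw [htop]; exact (inferInstance : IsIso V.topIso.hom)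
  have ht : t = CategoryTheory.inv (t ⁻¹ᵁ O).ι ≫ (t ∣_ O) ≫ O.ι := by
    rw [morphismRestrict_ι, IsIso.inv_hom_id_assoc]
  haveI : IsOpenImmersion t := by rw [ht]; infer_instance
  have hr : Set.range (pullback.fst π U.ι) = Set.range t := by
    rw [Scheme.Pullback.range_fst, Scheme.Opens.range_ι]
    have : Set.range (CategoryTheory.inv (t ⁻¹ᵁ O).ι ≫ (t ∣_ O) ≫ O.ι) = (O : Set g.normalization) := by
      rw [← Category.assoc, Scheme.Hom.comp_base, TopCat.coe_comp,
        (Scheme.Hom.surjective (CategoryTheory.inv (t ⁻¹ᵁ O).ι ≫ (t ∣_ O))).range_comp,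
        Scheme.Opens.range_ι]
    rw [← ht] at this
    rw [this]
    rfl
  refine ⟨IsOpenImmersion.isoOfRangeEq _ t hr, ?_⟩
  rw [← cancel_mono U.ι, Category.assoc, ← pullback.condition]
  conv_lhs => arg 2; rw [← Scheme.Hom.toNormalization_fromNormalization (h ≫ U.ι)]
  exact IsOpenImmersion.isoOfRangeEq_hom_fac_assoc _ _ _ π

theorem depth_ge_two (y : (h ≫ U.ι).normalization) (hy : (h ≫ U.ι).fromNormalization y ∉ U) :
    (2 : ℕ∞) ≤ LocCoh.depth ((h ≫ U.ι).normalization.presheaf.stalk y)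
      ((h ≫ U.ι).normalization.presheaf.stalk y) := by
  classical
  let g := h ≫ U.ι
  let π := g.fromNormalization
  let x := π y
  obtain ⟨W, hW, hxW, -⟩ := exists_isAffineOpen_mem_and_subset (x := x) (U := (⊤ : X.Opens)) trivial
  letI := (g.app W).hom.toAlgebra
  haveI : IsNoetherianRing Γ(X, W) := IsLocallyNoetherian.component_noetherian ⟨W, hW⟩
  obtain ⟨-, hfd, hev⟩ := Sheaf.section_data U hU h hW
  obtain ⟨a, b, ha, hb, hab⟩ := Sheaf.exists_pair U hU x hy
  letI := X.presheaf.algebra_section_stalk (⟨x, hxW⟩ : W)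
  haveI := hW.isLocalization_stalk ⟨x, hxW⟩
  let P := (hW.primeIdealOf ⟨x, hxW⟩).asIdeal
  obtain ⟨⟨a', sa⟩, haa⟩ := IsLocalization.surj P.primeCompl a
  obtain ⟨⟨b', sb⟩, hbb⟩ := IsLocalization.surj P.primeCompl b
  have hua := IsLocalization.map_units (X.presheaf.stalk x) sa
  have hub := IsLocalization.map_units (X.presheaf.stalk x) sb
  set φ := algebraMap Γ(X, W) (X.presheaf.stalk x) with hφ
  have hx0 : ∀ c : Γ(X, W), a' * c = 0 → ∃ s ∈ P.primeCompl, s * c = 0 := by
    intro c hc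
    have h0 : a * (φ sa.1 * φ c) = 0 := by rw [← mul_assoc, haa, ← map_mul, hc, map_zero]
    have h1 := hua.mul_right_eq_zero.mp (hab.1 _ h0)
    obtain ⟨⟨s, hs⟩, hsc⟩ := (IsLocalization.map_eq_zero_iff P.primeCompl _ c).mp h1
    exact ⟨s, hs, hsc⟩
  have hy0 : ∀ c d : Γ(X, W), b' * c = a' * d → ∃ s ∈ P.primeCompl, ∃ e, s * c = a' * e := by
    intro c d hcd
    have h0 : b * (φ sb.1 * φ c) = a * (φ sa.1 * φ d) := by
      rw [← mul_assoc, ← mul_assoc, haa, hbb, ← map_mul, ← map_mul, hcd]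
    obtain ⟨w, hw⟩ := hab.2 _ _ h0
    obtain ⟨⟨w', sw⟩, hww⟩ := IsLocalization.surj P.primeCompl w
    have h1 : φ (sw.1 * sb.1 * sa.1 * c) = φ (a' * w') := by
      rw [map_mul, map_mul, map_mul, map_mul, ← haa, ← hww]
      linear_combination (φ sw.1 * φ sa.1) * hw
    obtain ⟨⟨s, hs⟩, hsc⟩ := (IsLocalization.eq_iff_exists P.primeCompl _).mp h1
    refine ⟨s * (sw.1 * sb.1 * sa.1), P.primeCompl.mul_mem hs
      (P.primeCompl.mul_mem (P.primeCompl.mul_mem sw.2 sb.2) sa.2), s * w', ?_⟩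
    linear_combination hsc
  obtain ⟨hxB, hyB⟩ := Alg.pair_of_bijective_eval hfd hev P.primeCompl a' b' hx0 hy0
  -- transfer to the normalization
  let O : g.normalization.Opens := π ⁻¹ᵁ W
  have hO : IsAffineOpen O := hW.preimage π
  have hteq : g.toNormalization ⁻¹ᵁ O = g ⁻¹ᵁ W := by
    rw [← Scheme.Hom.comp_preimage, Scheme.Hom.toNormalization_fromNormalization]
  let e := RingEquiv.ofBijective (g.toNormalization.appLE O (g ⁻¹ᵁ W) hteq.ge).hom (bijective_app U hU h hW hteq.ge)
  have he : ∀ c, e ((π.app W) c) = g.app W c := by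
    intro c
    have key : ∀ (k : V ⟶ X) (_ : g.toNormalization ≫ π = k) (hle : k ⁻¹ᵁ W ≤ g.toNormalization ⁻¹ᵁ O),
        (g.toNormalization.appLE O (k ⁻¹ᵁ W) hle) ((π.app W) c) = k.app W c := by
      rintro k rfl hle
      rw [Scheme.Hom.app_eq_appLE (g.toNormalization ≫ π), Scheme.Hom.comp_appLE]
      rfl
    exact key g g.toNormalization_fromNormalization hteq.ge
  letI := g.normalization.presheaf.algebra_section_stalk (⟨y, hxW⟩ : O)
  haveI := hO.isLocalization_stalk ⟨y, hxW⟩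
  let Q := (hO.primeIdealOf ⟨y, hxW⟩).asIdeal
  let ψ := algebraMap Γ(g.normalization, O) (g.normalization.presheaf.stalk y)
  have hcomp : ∀ c, ψ (π.app W c) = π.stalkMap y (φ c) := fun c =>
    (Scheme.Hom.germ_stalkMap_apply π W y hxW c).symm
  have hunit : ∀ s ∈ P.primeCompl, IsUnit (ψ (π.app W s)) := fun s hs => by
    rw [hcomp]; exact (IsLocalization.map_units (X.presheaf.stalk x) ⟨s, hs⟩).map _
  have hmem : ∀ (c : X.presheaf.stalk x) (c' : Γ(X, W)) (sc : P.primeCompl), c * φ sc.1 = φ c' →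
      c ∈ IsLocalRing.maximalIdeal (X.presheaf.stalk x) →
      ψ (π.app W c') ∈ IsLocalRing.maximalIdeal (g.normalization.presheaf.stalk y) := by
    intro c c' sc hc hcm
    rw [hcomp, ← hc]
    rw [IsLocalRing.mem_maximalIdeal, mem_nonunits_iff]
    intro hu
    exact (IsLocalRing.mem_maximalIdeal _).mp (Ideal.mul_mem_right _ _ hcm) (isUnit_of_map_unit (π.stalkMap y).hom _ hu)
  let A0 := ψ (π.app W a')
  let B0 := ψ (π.app W b')
  have hpair : RingTheory.Sequence.IsWeaklyRegular (g.normalization.presheaf.stalk y) [A0, B0] := by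
    refine (RingTheory.Sequence.isWeaklyRegular_cons_iff _ _ _).mpr ⟨?_,
      (RingTheory.Sequence.isWeaklyRegular_singleton_iff _ _).mpr ?_⟩
    · refine (IsLeftRegular.isSMulRegular ?_)
      refine isLeftRegular_iff_right_eq_zero_of_mul.mpr fun z hz => ?_
      obtain ⟨⟨c, sc⟩, hc⟩ := IsLocalization.surj Q.primeCompl z
      have h0 : ψ (π.app W a' * c) = 0 := by
        rw [map_mul, ← hc, ← mul_assoc]
        show A0 * z * _ = 0
        rw [hz, zero_mul]
      obtain ⟨⟨w, hw⟩, hwc⟩ := (IsLocalization.map_eq_zero_iff Q.primeCompl _ _).mp h0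
      obtain ⟨s, hs, hsc⟩ := hxB (e (w * c)) (by
        rw [Algebra.smul_def]
        show g.app W a' * _ = 0
        rw [← he, ← map_mul, show π.app W a' * (w * c) = w * (π.app W a' * c) by ring, hwc, map_zero])
      have h1 : π.app W s * (w * c) = 0 := e.injective (by
        rw [map_mul, map_zero, he]
        rw [Algebra.smul_def] at hsc
        exact hsc)
      have h2 := congrArg ψ h1
      rw [map_mul, map_mul, map_zero, (hunit s hs).mul_right_eq_zero,
        (IsLocalization.map_units _ (⟨w, hw⟩ : Q.primeCompl)).mul_right_eq_zero, ← hc] at h2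
      exact (IsLocalization.map_units _ sc).mul_left_eq_zero.mp h2
    · refine fun p q hpq => ?_
      obtain ⟨p, rfl⟩ := Submodule.Quotient.mk_surjective _ p
      obtain ⟨q, rfl⟩ := Submodule.Quotient.mk_surjective _ q
      change B0 • (Submodule.Quotient.mk p : QuotSMulTop A0 (g.normalization.presheaf.stalk y)) =
        B0 • Submodule.Quotient.mk q at hpq
      rw [← Submodule.Quotient.mk_smul, ← Submodule.Quotient.mk_smul, Submodule.Quotient.eq, ← smul_sub,
        Submodule.mem_smul_pointwise_iff_exists] at hpq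
      obtain ⟨d, -, hd⟩ := hpq
      obtain ⟨⟨c, sc⟩, hc⟩ := IsLocalization.surj Q.primeCompl (p - q)
      obtain ⟨⟨d', sd⟩, hd'⟩ := IsLocalization.surj Q.primeCompl d
      have hd0 : A0 * d = B0 * (p - q) := hd
      have h0 : ψ (π.app W b' * (sd.1 * c)) = ψ (π.app W a' * (sc.1 * d')) := by
        simp only [map_mul]
        rw [← hc, ← hd']
        linear_combination -(ψ sd.1 * ψ sc.1) * hd0
      obtain ⟨⟨w, hw⟩, hwc⟩ := (IsLocalization.eq_iff_exists Q.primeCompl _).mp h0
      obtain ⟨s, hs, k, hk⟩ := hyB (e (w * (sd.1 * c))) (e (w * (sc.1 * d'))) (by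
        rw [Algebra.smul_def, Algebra.smul_def]
        show g.app W b' * _ = g.app W a' * _
        rw [← he, ← he, ← map_mul, ← map_mul]
        congr 1
        linear_combination hwc)
      obtain ⟨k', rfl⟩ := e.surjective k
      have h1 : π.app W s * (w * (sd.1 * c)) = π.app W a' * k' := e.injective (by
        simp only [map_mul, he]
        rw [← map_mul, ← map_mul]
        rw [Algebra.smul_def, Algebra.smul_def] at hk
        exact hk)
      have h2 := congrArg ψ h1
      simp only [map_mul] at h2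
      rw [← hc] at h2
      obtain ⟨v, hv⟩ := (((hunit s hs).mul (IsLocalization.map_units _ (⟨w, hw⟩ : Q.primeCompl))).mul
        ((IsLocalization.map_units _ sd).mul (IsLocalization.map_units _ sc)))
      rw [Submodule.Quotient.eq, Submodule.mem_smul_pointwise_iff_exists]
      refine ⟨(↑v⁻¹ : g.normalization.presheaf.stalk y) * ψ k', trivial, ?_⟩
      show A0 * _ = _
      calc A0 * ((↑v⁻¹ : g.normalization.presheaf.stalk y) * ψ k') = (↑v⁻¹ : _) * (A0 * ψ k') := by ring
        _ = (↑v⁻¹ : _) * ((↑v : g.normalization.presheaf.stalk y) * (p - q)) := by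
            congr 1
            rw [hv, ← h2]; ring
        _ = p - q := by rw [← mul_assoc, Units.inv_mul, one_mul]
  exact Lib.Depth.Basic.length_le_idealDepth hpair (by
    intro r hr
    simp only [List.mem_cons, List.not_mem_nil, or_false] at hr
    rcases hr with rfl | rfl
    · exact hmem a a' sa haa ha
    · exact hmem b b' sb hbb hb)

end Groth.Agent.H26.S2Ext.Main
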