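import Groth.Agent.H26.S2Ext.Alg
import Groth.Agent.H75.Extend.Sections
import Groth.Agent.Lib.Depth.Basic
import Mathlib.AlgebraicGeometry.Morphisms.Etale
import Mathlib.AlgebraicGeometry.Morphisms.QuasiSeparated
import Mathlib.AlgebraicGeometry.Morphisms.Flat
import Mathlib.AlgebraicGeometry.Morphisms.Finite
import Mathlib.AlgebraicGeometry.Noetherian
import Mathlib.RingTheory.Flat.EquationalCriterion

/-!
# Sections of finite etale covers of an open with complement of depth two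
-/

set_option autoImplicit false
set_option linter.all false
set_option maxHeartbeats 1000000

universe u

open CategoryTheory CategoryTheory.Limits AlgebraicGeometry TopologicalSpace Opposite
open Groth.Agent.H75.Extend

namespace Groth.Agent.H26.S2Ext.Sheaf

/-- Gluing of sections over a quasi-compact quasi-separated open. -/
theorem glueProp_sections {Z : Scheme.{u}} (Ω : Z.Opens) (hc : IsCompact (Ω : Set Z))
    (hqs : IsQuasiSeparated (Ω : Set Z)) {A : Type u} [CommRing A] [Algebra A Γ(Z, Ω)] {ι : Type u} (f : ι → A)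
    (Ω' : Z.Opens) (hcov : Ω' ≤ ⨆ i, Z.basicOpen (algebraMap A Γ(Z, Ω) (f i))) (hle : Ω' ≤ Ω)
    (hsub : ∀ i, Z.basicOpen (algebraMap A Γ(Z, Ω) (f i)) ≤ Ω') (hbij : Function.Bijective (res hle)) :
    Alg.GlueProp f Γ(Z, Ω) := by
  let D : ι → Z.Opens := fun i => Z.basicOpen (algebraMap A Γ(Z, Ω) (f i))
  have hDle : ∀ i, D i ≤ Ω := fun i => Z.basicOpen_le _
  have hunit : ∀ i (n : ℕ), IsUnit (res (hDle i) (algebraMap A Γ(Z, Ω) (f i ^ n))) := by
    intro i n
    rw [map_pow, res, map_pow]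
    exact (RingedSpace.isUnit_res_basicOpen _ _).pow n
  have hzero : ∀ i (m : Γ(Z, Ω)), res (hDle i) m = 0 → ∃ l : ℕ, f i ^ l • m = 0 := by
    intro i m hm
    letI := (Z.presheaf.map (homOfLE (hDle i)).op).hom.toAlgebra
    haveI : IsLocalization.Away (algebraMap A Γ(Z, Ω) (f i)) Γ(Z, D i) :=
      isLocalization_basicOpen_of_qcqs hc hqs _
    obtain ⟨⟨_, l, rfl⟩, hl⟩ := (IsLocalization.map_eq_zero_iff
      (Submonoid.powers (algebraMap A Γ(Z, Ω) (f i))) Γ(Z, D i) m).mp hm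
    exact ⟨l, by rw [Algebra.smul_def, map_pow]; exact hl⟩
  refine ⟨fun m hm => ?_, fun m n hc' => ?_⟩
  · refine hbij.1 ?_
    refine Z.sheaf.eq_of_locally_eq' D Ω' (fun i => homOfLE (hsub i)) hcov _ _ fun i => ?_
    obtain ⟨k, hk⟩ := hm i
    change res (hsub i) (res hle m) = res (hsub i) (res hle 0)
    rw [res_res, res_res, show res (hsub i |>.trans hle) (0 : Γ(Z, Ω)) = 0 from map_zero _]
    refine (hunit i k).mul_right_eq_zero.mp ?_
    rw [← map_mul, ← Algebra.smul_def, hk, map_zero]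
  · let s : ∀ i, Γ(Z, D i) := fun i => ((hunit i n).unit⁻¹ : (Γ(Z, D i))ˣ) * res (hDle i) (m i)
    have hs : ∀ i, res (hDle i) (algebraMap A Γ(Z, Ω) (f i ^ n)) * s i = res (hDle i) (m i) := fun i => by
      simp only [s, ← mul_assoc, IsUnit.mul_val_inv, one_mul]
    obtain ⟨t, ht, -⟩ := Z.sheaf.existsUnique_gluing' D Ω' (fun i => homOfLE (hsub i)) hcov s (fun i j => by
      change res (inf_le_left : D i ⊓ D j ≤ D i) (s i) = res (inf_le_right : D i ⊓ D j ≤ D j) (s j)
      obtain ⟨l, hl⟩ := hc' i j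
      let h₀ : D i ⊓ D j ≤ Ω := inf_le_left.trans (hDle i)
      have hu : ∀ k : ℕ, IsUnit (res h₀ (algebraMap A Γ(Z, Ω) (f i ^ k))) ∧
          IsUnit (res h₀ (algebraMap A Γ(Z, Ω) (f j ^ k))) := fun k =>
        ⟨by rw [← res_res (inf_le_left : D i ⊓ D j ≤ D i) (hDle i)]; exact (hunit i k).map _,
          by rw [← res_res (inf_le_right : D i ⊓ D j ≤ D j) (hDle j)]; exact (hunit j k).map _⟩
      have hi : res h₀ (algebraMap A Γ(Z, Ω) (f i ^ n)) * res (inf_le_left : D i ⊓ D j ≤ D i) (s i) =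
          res h₀ (m i) := by
        rw [← res_res (inf_le_left : D i ⊓ D j ≤ D i) (hDle i), ← res_res (inf_le_left : D i ⊓ D j ≤ D i) (hDle i),
          ← hs i]
        exact (map_mul _ _ _).symm
      have hj : res h₀ (algebraMap A Γ(Z, Ω) (f j ^ n)) * res (inf_le_right : D i ⊓ D j ≤ D j) (s j) =
          res h₀ (m j) := by
        rw [← res_res (inf_le_right : D i ⊓ D j ≤ D j) (hDle j), ← res_res (inf_le_right : D i ⊓ D j ≤ D j) (hDle j),
          ← hs j]
        exact (map_mul _ _ _).symm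
      have h0 := congrArg (res h₀) hl
      simp only [Algebra.smul_def, res, map_mul, map_sub, map_zero, map_pow, mul_pow] at h0
      have hu' := ((hu l).1.mul (hu l).2)
      simp only [res, map_pow] at hu'
      have h1 := (hu'.mul_right_eq_zero).mp h0
      have hij := (hu n).1.mul (hu n).2
      refine hij.mul_left_cancel ?_
      simp only [res, map_pow] at hi hj h1 ⊢
      rw [sub_eq_zero] at h1
      rw [← hi, ← hj] at h1
      linear_combination h1)
    obtain ⟨β, hβ⟩ := hbij.2 t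
    refine ⟨β, fun i => hzero i _ ?_⟩
    have hti : res (hsub i) t = s i := ht i
    rw [← hβ, res_res] at hti
    rw [Algebra.smul_def, show res (hDle i) (algebraMap A Γ(Z, Ω) (f i ^ n) * β - m i) =
      res (hDle i) (algebraMap A Γ(Z, Ω) (f i ^ n)) * res (hDle i) β - res (hDle i) (m i) by simp [res]]
    rw [hti, hs, sub_self]

variable {X : Scheme.{u}} [IsLocallyNoetherian X] (U : X.Opens)
  (hU : ∀ x : X, x ∉ U → (2 : ℕ∞) ≤ LocCoh.depth (X.presheaf.stalk x) (X.presheaf.stalk x))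
include hU

/-- Points outside `U` have weakly regular pairs in the maximal ideal. -/
theorem exists_pair (x : X) (hx : x ∉ U) : ∃ a b : X.presheaf.stalk x,
    a ∈ IsLocalRing.maximalIdeal (X.presheaf.stalk x) ∧
    b ∈ IsLocalRing.maximalIdeal (X.presheaf.stalk x) ∧ Pair a b := by
  obtain ⟨rs, hl, hmem, hr⟩ := (Lib.Depth.Basic.le_depth_iff 2).mp (hU x hx)
  obtain ⟨a, b, rfl⟩ := List.length_eq_two.mp hl
  exact ⟨a, b, hmem a (by simp), hmem b (by simp), Pair.of_isWeaklyRegular hr.toIsWeaklyRegular⟩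

variable {V : Scheme.{u}} (h : V ⟶ (U : Scheme.{u})) [IsFinite h] [Etale h]

theorem section_data {W : X.Opens} (hW : IsAffineOpen W) :
    letI := ((h ≫ U.ι).app W).hom.toAlgebra
    Module.Finite Γ(X, W) Γ(V, (h ≫ U.ι) ⁻¹ᵁ W) ∧
      Module.Finite Γ(X, W) (Γ(V, (h ≫ U.ι) ⁻¹ᵁ W) →ₗ[Γ(X, W)] Γ(X, W)) ∧
      Function.Bijective (Module.Dual.eval Γ(X, W) Γ(V, (h ≫ U.ι) ⁻¹ᵁ W)) := by
  classical
  let g := h ≫ U.ι
  letI := (g.app W).hom.toAlgebra
  haveI : IsNoetherianRing Γ(X, W) := IsLocallyNoetherian.component_noetherian ⟨W, hW⟩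
  haveI : IsLocallyNoetherian V := LocallyOfFiniteType.isLocallyNoetherian g
  have hcU : IsCompact ((W ⊓ U : X.Opens) : Set X) := by
    haveI : IsAffine (W : Scheme.{u}) := hW
    haveI : IsNoetherian (W : Scheme.{u}) := ⟨⟩
    have hh := (NoetherianSpace.isCompact ((W.ι ⁻¹ᵁ U : (W : Scheme.{u}).Opens) : Set (W : Scheme.{u}))).image
      W.ι.continuous
    convert hh using 1
    ext x
    exact ⟨fun hx => ⟨⟨x, hx.1⟩, hx.2, rfl⟩, by rintro ⟨y, hy, rfl⟩; exact ⟨y.2, hy⟩⟩
  have hb : ∀ x : ↥(W ⊓ U), ∃ a : Γ(X, W), X.basicOpen a ≤ W ⊓ U ∧ (x : X) ∈ X.basicOpen a := fun x =>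
    hW.exists_basicOpen_le ⟨x.1, x.2⟩ x.2.1
  choose a ha hxa using hb
  obtain ⟨t, ht⟩ := hcU.elim_finite_subcover (fun x : ↥(W ⊓ U) => (X.basicOpen (a x) : Set X))
    (fun x => (X.basicOpen (a x)).2) (fun y hy => Set.mem_iUnion.mpr ⟨⟨y, hy⟩, hxa _⟩)
  let f : t → Γ(X, W) := fun x => a x.1
  have hcovX : W ⊓ U ≤ ⨆ i, X.basicOpen (f i) := fun y hy => by
    obtain ⟨i, hi, hyi⟩ := Set.mem_iUnion₂.mp (ht hy)
    exact Opens.mem_iSup.mpr ⟨⟨i, hi⟩, hyi⟩
  haveI : QuasiCompact U.ι := inferInstance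
  have hA : Alg.GlueProp f Γ(X, W) := by
    refine glueProp_sections W hW.isCompact hW.isQuasiSeparated f (W ⊓ U) hcovX inf_le_left
      (fun i => ha i.1) ⟨fun p q h => ?_, fun p => ?_⟩
    · refine eq_of_res_eq (U := U) (fun z hz => ?_) inf_le_left le_rfl p q h
      obtain ⟨a, b, ha, -, hab⟩ := exists_pair U hU z hz
      exact ⟨a, ha, hab.1⟩
    · exact exists_res_eq U (exists_pair U hU) hW p
  have hcB : IsCompact ((g ⁻¹ᵁ W : V.Opens) : Set V) :=
    g.isCompact_preimage hW.isCompact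
  have hqB : IsQuasiSeparated ((g ⁻¹ᵁ W : V.Opens) : Set V) := IsQuasiSeparated.of_quasiSeparatedSpace _
  have hD : ∀ i, g ⁻¹ᵁ X.basicOpen (f i) = V.basicOpen (g.app W (f i)) := fun i =>
    g.preimage_basicOpen _
  have hM : Alg.GlueProp f Γ(V, g ⁻¹ᵁ W) := by
    refine glueProp_sections (g ⁻¹ᵁ W) hcB hqB f (g ⁻¹ᵁ W) ?_ le_rfl (fun i => V.basicOpen_le _)
      (by
        have : res (le_refl (g ⁻¹ᵁ W)) = id := funext fun s => by simp [res]
        rw [this]; exact Function.bijective_id)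
    intro y hy
    have hyU : g y ∈ U := (h y).2
    obtain ⟨i, hi⟩ := Opens.mem_iSup.mp (hcovX ⟨hy, hyU⟩)
    exact Opens.mem_iSup.mpr ⟨i, (hD i).le hi⟩
  have hloc : Alg.LocProj f Γ(V, g ⁻¹ᵁ W) := by
    intro i
    let D : X.Opens := X.basicOpen (f i)
    have hDa : IsAffineOpen D := hW.basicOpen (f i)
    let E : V.Opens := g ⁻¹ᵁ D
    have hEW : E ≤ g ⁻¹ᵁ W := g.preimage_mono (X.basicOpen_le _)
    letI : Algebra Γ(X, W) Γ(X, D) := (X.presheaf.map (homOfLE (X.basicOpen_le (f i))).op).hom.toAlgebra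
    haveI : IsLocalization.Away (f i) Γ(X, D) := hW.isLocalization_basicOpen (f i)
    letI : Algebra Γ(X, D) Γ(V, E) := (g.app D).hom.toAlgebra
    letI : Algebra Γ(V, g ⁻¹ᵁ W) Γ(V, E) := (V.presheaf.map (homOfLE hEW).op).hom.toAlgebra
    letI : Algebra Γ(X, W) Γ(V, E) :=
      ((algebraMap Γ(V, g ⁻¹ᵁ W) Γ(V, E)).comp (algebraMap Γ(X, W) _)).toAlgebra
    haveI : IsScalarTower Γ(X, W) Γ(V, g ⁻¹ᵁ W) Γ(V, E) := .of_algebraMap_eq fun _ => rfl
    haveI : IsScalarTower Γ(X, W) Γ(X, D) Γ(V, E) := .of_algebraMap_eq fun x =>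
      (ConcreteCategory.congr_hom (g.naturality (homOfLE (X.basicOpen_le (f i))).op) x).symm
    haveI : IsLocalization.Away (algebraMap Γ(X, W) Γ(V, g ⁻¹ᵁ W) (f i)) Γ(V, E) := by
      have key : ∀ (O : V.Opens) (hO : O ≤ g ⁻¹ᵁ W), O = V.basicOpen (g.app W (f i)) →
          letI := (V.presheaf.map (homOfLE hO).op).hom.toAlgebra
          IsLocalization.Away (g.app W (f i)) Γ(V, O) := by
        rintro O hO rfl
        exact isLocalization_basicOpen_of_qcqs hcB hqB _
      exact key E hEW (hD i)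
    have hEa : IsAffineOpen (U.ι ⁻¹ᵁ D) := hDa.preimage_of_isOpenImmersion U.ι (by
      rw [Scheme.Opens.opensRange_ι]; exact (ha i.1).trans inf_le_right)
    have happ : g.app D = U.ι.app D ≫ h.app (U.ι ⁻¹ᵁ D) := rfl
    haveI : IsIso (U.ι.app D) := Scheme.Hom.isIso_app _ _ (by
      rw [Scheme.Opens.opensRange_ι]; exact (ha i.1).trans inf_le_right)
    have hsurj : Function.Surjective (U.ι.app D).hom := (ConcreteCategory.bijective_of_isIso _).2
    have hfin : Module.Finite Γ(X, D) Γ(V, E) := RingHom.finite_algebraMap.mp (by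
      show (g.app D).hom.Finite
      rw [happ]
      exact (h.finite_app _ hEa).comp (RingHom.Finite.of_surjective _ hsurj))
    have hflat : Module.Flat Γ(X, D) Γ(V, E) := RingHom.flat_algebraMap_iff.mp (by
      show (g.app D).hom.Flat
      rw [happ, Scheme.Hom.app_eq_appLE h]
      refine RingHom.Flat.comp (RingHom.Flat.of_bijective (ConcreteCategory.bijective_of_isIso _)) ?_
      exact h.flat_appLE hEa (hEa.preimage h) le_rfl)
    haveI : IsNoetherianRing Γ(X, D) := IsLocallyNoetherian.component_noetherian ⟨D, hDa⟩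
    haveI := Module.finitePresentation_of_finite Γ(X, D) Γ(V, E)
    exact ⟨Γ(X, D), inferInstance, inferInstance, inferInstance, Γ(V, E), inferInstance, inferInstance,
      inferInstance, inferInstance, (IsScalarTower.toAlgHom Γ(X, W) Γ(V, g ⁻¹ᵁ W) Γ(V, E)).toLinearMap,
      (isLocalizedModule_iff_isLocalization).mpr (by
        rw [Algebra.algebraMapSubmonoid, Submonoid.map_powers]; infer_instance),
      hfin, Module.Flat.projective_of_finitePresentation⟩
  exact Alg.bijective_eval hA hM hloc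

end Groth.Agent.H26.S2Ext.Sheaf
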